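import Mathlib
import Cfsg.Prelude.Def_Characters

/-!
# Project PM2 (S4705: a faithful irreducible character of degree `p - 2`) : definitions

`Setting p ζ x ω` is the situation after the front end (block theory of defect one) when the centre has odd
order: `x` has order `p`, generates a Sylow `p`-subgroup, `C_G(x) = ⟨x⟩ Z(G)`, some element inverts `x`, and
`ζ (x^m c) = -(ω^m + ω^-m) ν(c)` for `c` central, `ν(c) = ζ(c)/ζ(1)` the central character.
-/

set_option autoImplicit false

namespace Cfsg.Agent.Lib.helper7.PM2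

universe u

variable {G : Type u} [Group G]

/-- the value of the central character of `ζ` at `c` -/
noncomputable def nu (ζ : G → ℂ) (c : G) : ℂ := ζ c / ζ 1

/-- the power-map conjugate `g ↦ ζ (g ^ k)` (a Galois conjugate of `ζ` when `k` is prime to `|G|`) -/
def pw (ζ : G → ℂ) (k : ℕ) : G → ℂ := fun g => ζ (g ^ k)

/-- the character of the exterior square -/
noncomputable def altSq (χ : G → ℂ) : G → ℂ := fun g => (χ g ^ 2 - χ (g ^ 2)) / 2

/-- the character of the symmetric square -/
noncomputable def symSq (χ : G → ℂ) : G → ℂ := fun g => (χ g ^ 2 + χ (g ^ 2)) / 2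

open Classical in
/-- the `p`-singular elements -/
noncomputable def sing (p : ℕ) (G : Type u) [Group G] [Fintype G] : Finset G :=
  Finset.univ.filter (fun g => p ∣ orderOf g)

open Classical in
/-- the `p`-regular elements -/
noncomputable def reg (p : ℕ) (G : Type u) [Group G] [Fintype G] : Finset G :=
  Finset.univ.filter (fun g => ¬ p ∣ orderOf g)

open Classical in
/-- the elements which centralize or invert `x` (the normalizer of `⟨x⟩` in the setting) -/
noncomputable def nrm [Fintype G] (x : G) : Finset G :=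
  Finset.univ.filter (fun h => h * x * h⁻¹ = x ∨ h * x * h⁻¹ = x⁻¹)

open Classical in
/-- the centre, as a finset -/
noncomputable def cen (G : Type u) [Group G] [Fintype G] : Finset G :=
  Finset.univ.filter (fun g => g ∈ Subgroup.center G)

open Classical in
/-- the involutions -/
noncomputable def invol (G : Type u) [Group G] [Fintype G] : Finset G :=
  Finset.univ.filter (fun g => orderOf g = 2)

/-- the standing hypotheses of the main argument -/
structure Setting [Fintype G] (p : ℕ) (ζ : G → ℂ) (x : G) (ω : ℂ) : Prop where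
  hp : p.Prime
  hp5 : 5 < p
  irr : Cfsg.IsIrrCharacter G ζ
  deg : ζ 1 = (p : ℂ) - 2
  faith : ∀ g : G, ζ g = ζ 1 → g = 1
  ordx : orderOf x = p
  sylow : ¬ p ^ 2 ∣ Nat.card G
  cent : ∀ g : G, g * x = x * g → ∃ m : ℕ, ∃ c ∈ Subgroup.center G, g = x ^ m * c
  inv : ∃ τ : G, τ * x * τ⁻¹ = x⁻¹
  prim : IsPrimitiveRoot ω p
  val : ∀ m : ℕ, ¬ p ∣ m → ∀ c ∈ Subgroup.center G,
    ζ (x ^ m * c) = -(ω ^ m + (ω⁻¹) ^ m) * nu ζ c
  oddZ : Odd (Nat.card (Subgroup.center G))

theorem mem_sing [Fintype G] (p : ℕ) (g : G) : g ∈ sing p G ↔ p ∣ orderOf g := by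
  classical
  unfold sing
  rw [Finset.mem_filter]
  exact ⟨fun h => h.2, fun h => ⟨Finset.mem_univ _, h⟩⟩

theorem mem_reg [Fintype G] (p : ℕ) (g : G) : g ∈ reg p G ↔ ¬ p ∣ orderOf g := by
  classical
  unfold reg
  rw [Finset.mem_filter]
  exact ⟨fun h => h.2, fun h => ⟨Finset.mem_univ _, h⟩⟩

theorem mem_nrm [Fintype G] (x h : G) : h ∈ nrm x ↔ (h * x * h⁻¹ = x ∨ h * x * h⁻¹ = x⁻¹) := by
  classical
  unfold nrm
  rw [Finset.mem_filter]
  exact ⟨fun h => h.2, fun h => ⟨Finset.mem_univ _, h⟩⟩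

theorem mem_cen [Fintype G] (g : G) : g ∈ cen G ↔ g ∈ Subgroup.center G := by
  classical
  unfold cen
  rw [Finset.mem_filter]
  exact ⟨fun h => h.2, fun h => ⟨Finset.mem_univ _, h⟩⟩

theorem mem_invol [Fintype G] (g : G) : g ∈ invol G ↔ orderOf g = 2 := by
  classical
  unfold invol
  rw [Finset.mem_filter]
  exact ⟨fun h => h.2, fun h => ⟨Finset.mem_univ _, h⟩⟩

theorem pw_apply (ζ : G → ℂ) (k : ℕ) (g : G) : pw ζ k g = ζ (g ^ k) := rfl

theorem altSq_apply (χ : G → ℂ) (g : G) : altSq χ g = (χ g ^ 2 - χ (g ^ 2)) / 2 := rfl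

theorem symSq_apply (χ : G → ℂ) (g : G) : symSq χ g = (χ g ^ 2 + χ (g ^ 2)) / 2 := rfl

end Cfsg.Agent.Lib.helper7.PM2
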