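import Mathlib
import Cfsg.Prelude.Def_Characters
import Cfsg.Agent.Lib.helper7.BD.D1Defs
import Cfsg.Agent.Lib.helper7.PM2.Defs

/-!
# Project PM2 (S4705) : definitions for the front end

`FrontData p P ζ ε a Λ θ ξ` is the output of the theory of blocks of defect one (`root_main`, `root_value_Y`,
`bd3facts_param`) for the character `ζ`: with `C = C_G(P)`, `N = N_G(P)`, `θ` the canonical character of the root
block, `Λ` a linear character of `C` which is faithful on `P` and trivial on the `p`-regular elements,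
`ξ = Λ^a θ` (`0 < a < p`), and, for `p`-singular `c ∈ C`, `|C| ζ(c) = ε Σ_{n ∈ N} ξ^n(c)`.
-/

set_option autoImplicit false

namespace Cfsg.Agent.Lib.helper7.PM2

open Cfsg.Agent.Lib.helper7.BD

universe u

/-- the output of the theory of blocks of defect one for `ζ` -/
structure FrontData {G : Type u} [Group G] [Fintype G] (p : ℕ) (P : Sylow p G)
    [Fintype ↥(Subgroup.normalizer ((P : Subgroup G) : Set G))] (ζ : G → ℂ) (ε : ℤ) (a : ℕ)
    (Λ : ↥(Subgroup.centralizer ((P : Subgroup G) : Set G)) →* ℂˣ)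
    (θ ξ : Cfsg.IrrCharacter ↥(Subgroup.centralizer ((P : Subgroup G) : Set G))) : Prop where
  hε : ε = 1 ∨ ε = -1
  ha0 : 0 < a
  hap : a < p
  hΛ1 : ∀ c : ↥(Subgroup.centralizer ((P : Subgroup G) : Set G)), ¬ p ∣ orderOf c → Λ c = 1
  hΛ2 : ∀ c : ↥(Subgroup.centralizer ((P : Subgroup G) : Set G)), (c : G) ∈ (P : Subgroup G) → c ≠ 1 →
    Λ c ≠ 1
  hΛ3 : ∀ c : ↥(Subgroup.centralizer ((P : Subgroup G) : Set G)), Λ c ^ p = 1
  hθP : ∀ c : ↥(Subgroup.centralizer ((P : Subgroup G) : Set G)), (c : G) ∈ (P : Subgroup G) →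
    (θ : ↥(Subgroup.centralizer ((P : Subgroup G) : Set G)) → ℂ) c =
      (θ : ↥(Subgroup.centralizer ((P : Subgroup G) : Set G)) → ℂ) 1
  hξ : ∀ c : ↥(Subgroup.centralizer ((P : Subgroup G) : Set G)),
    (ξ : ↥(Subgroup.centralizer ((P : Subgroup G) : Set G)) → ℂ) c =
      ((Λ c : ℂˣ) : ℂ) ^ a * (θ : ↥(Subgroup.centralizer ((P : Subgroup G) : Set G)) → ℂ) c
  hval : ∀ c : ↥(Subgroup.centralizer ((P : Subgroup G) : Set G)), p ∣ orderOf c →
    (Nat.card ↥(Subgroup.centralizer ((P : Subgroup G) : Set G)) : ℂ) * ζ (c : G) =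
      ((ε : ℤ) : ℂ) * ∑ n : ↥(Subgroup.normalizer ((P : Subgroup G) : Set G)),
        (cjIrr (Subgroup.centralizer ((P : Subgroup G) : Set G)) (n : G) ξ :
          ↥(Subgroup.centralizer ((P : Subgroup G) : Set G)) → ℂ) c

end Cfsg.Agent.Lib.helper7.PM2
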