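import Mathlib
import Cfsg.Prelude.Def_Characters
import Cfsg.Agent.Lib.helper7.PM2.Defs
import Cfsg.Agent.Lib.helper7.PM2.FrontDefs
import Cfsg.Agent.Lib.helper7.CharCentral
import Cfsg.Agent.Lib.Helper29.LeoConcrete
import Cfsg.Agent.Lib.helper7.CharTools
import Cfsg.Agent.Lib.Helper24.CyclicInertial3
import Cfsg.Agent.Lib.Helper13.PM2FR1
import Cfsg.Agent.Lib.Helper24.PM2FR2
import Cfsg.Agent.Lib.Helper20.PM2FR3
import Cfsg.Agent.Lib.Helper20.PM2FR4

/-!
# Project PM2 (S4705) : FR5, the assembly of the front end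
-/

set_option autoImplicit false
set_option linter.unusedVariables false
set_option linter.unusedSectionVars false

namespace Cfsg.Agent.Lib.helper7.PM2

open Cfsg.Agent.Lib.helper7.BD
open scoped ComplexConjugate

universe u

/-- FR5 : the front end -/
theorem front {G : Type u} [Group G] [Fintype G] (p : ℕ) [Fact p.Prime] (hp : 5 < p) (P : Sylow p G)
    (hP : Nat.card P = p) (hnn : ¬ (P : Subgroup G).Normal) (ζ : G → ℂ)
    (hζ : Cfsg.IsIrrCharacter G ζ) (hfaith : ∀ g : G, ζ g = ζ 1 → g = 1)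
    (hdeg : ζ 1 = (p : ℂ) - 2) (hodd : Odd (Nat.card (Subgroup.center G))) :
    ∃ (x : G) (ω : ℂ), Setting p ζ x ω := by
  classical
  have hpP : p.Prime := Fact.out
  haveI : Fintype ↥(Subgroup.centralizer ((P : Subgroup G) : Set G)) := Fintype.ofFinite _
  haveI : Fintype ↥(Subgroup.normalizer ((P : Subgroup G) : Set G)) := Fintype.ofFinite _
  obtain ⟨ε, a, Λ, θ, ξ, D⟩ := front_data P hP hp ζ hζ hfaith hdeg
  obtain ⟨hε, hθ1, hf⟩ := front_arith D hP hp hnn hζ hfaith hdeg
  obtain ⟨τ, hτN, hτinv, hτval⟩ := front_tau D hP hp hε hθ1 hf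
  have hcen := front_central D hP hp hε hθ1 hf hζ hfaith hdeg
  -- a generator of `P`
  haveI hcyc : IsCyclic ↥(P : Subgroup G) := isCyclic_of_prime_card hP
  obtain ⟨x0, hx0⟩ := hcyc.exists_generator
  set x : G := (x0 : G) with hxdef
  have hxP : x ∈ (P : Subgroup G) := x0.2
  have hordx0 : orderOf x0 = p := by
    rw [orderOf_eq_card_of_forall_mem_zpowers hx0, hP]
  have hordx : orderOf x = p := by
    rw [hxdef, Subgroup.orderOf_coe, hordx0]
  have hx1 : x ≠ 1 := by
    intro h
    rw [h, orderOf_one] at hordx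
    exact hpP.one_lt.ne hordx
  have hPz : ∀ y ∈ (P : Subgroup G), ∃ m : ℕ, y = x ^ m := by
    intro y hy
    have h1 := hx0 ⟨y, hy⟩
    rw [← mem_powers_iff_mem_zpowers, Submonoid.mem_powers_iff] at h1
    obtain ⟨m, hm⟩ := h1
    refine ⟨m, ?_⟩
    have := congrArg (fun t : ↥(P : Subgroup G) => (t : G)) hm
    simpa using this.symm
  -- `P` is abelian, inside its centralizer
  have hPC : (P : Subgroup G) ≤ Subgroup.centralizer ((P : Subgroup G) : Set G) := by
    intro y hy
    rw [Subgroup.mem_centralizer_iff]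
    intro z hz
    obtain ⟨m, rfl⟩ := hPz y hy
    obtain ⟨m', rfl⟩ := hPz z hz
    rw [← pow_add, ← pow_add, add_comm]
  have hxC : x ∈ Subgroup.centralizer ((P : Subgroup G) : Set G) := hPC hxP
  set xc : ↥(Subgroup.centralizer ((P : Subgroup G) : Set G)) := ⟨x, hxC⟩ with hxc
  have hxc1 : xc ≠ 1 := by
    intro h
    apply hx1
    exact congrArg Subtype.val h
  set lam : ℂ := ((Λ xc : ℂˣ) : ℂ) with hlam
  have hlam1 : lam ≠ 1 := by
    intro h
    apply D.hΛ2 xc hxP hxc1
    exact Units.ext h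
  have hlamp : lam ^ p = 1 := by
    have := D.hΛ3 xc
    rw [hlam, ← Units.val_pow_eq_pow_val, this, Units.val_one]
  have hlamprim : IsPrimitiveRoot lam p := by
    have h1 : orderOf lam = p := orderOf_eq_prime hlamp hlam1
    rw [← h1]
    exact IsPrimitiveRoot.orderOf lam
  have hacop : Nat.Coprime a p := by
    rw [Nat.coprime_comm, Nat.Prime.coprime_iff_not_dvd hpP]
    intro hdvd
    have := Nat.le_of_dvd D.ha0 hdvd
    have := D.hap
    omega
  have hωprim : IsPrimitiveRoot (lam ^ a) p := hlamprim.pow_of_coprime a hacop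
  -- `p`-elements of `C` lie in `P`
  have hpel : ∀ z : ↥(Subgroup.centralizer ((P : Subgroup G) : Set G)), orderOf z = p →
      (z : G) ∈ (P : Subgroup G) := by
    intro z hz
    apply Cfsg.Agent.Lib.Helper29.leoc_pel z.2
    apply Cfsg.Agent.Lib.Helper29.leoc_isPGroup_zpowers 1
    rw [pow_one, Subgroup.orderOf_coe, hz]
  -- an element of `C` on which `Λ` is trivial is `p`-regular
  have hΛreg : ∀ k : ↥(Subgroup.centralizer ((P : Subgroup G) : Set G)), Λ k = 1 → ¬ p ∣ orderOf k := by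
    intro k hk hdvd
    have hord : orderOf (k ^ (orderOf k / p)) = p := by
      rw [orderOf_pow_orderOf_div (orderOf_pos k).ne' hdvd]
    have hmem := hpel _ hord
    have hne : k ^ (orderOf k / p) ≠ 1 := by
      intro h
      rw [h, orderOf_one] at hord
      exact hpP.one_lt.ne hord
    apply D.hΛ2 _ hmem hne
    rw [map_pow, hk, one_pow]
  -- the centre is `p`-regular
  have hZC : Subgroup.center G ≤ Subgroup.centralizer ((P : Subgroup G) : Set G) :=
    Subgroup.center_le_centralizer _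
  have hZreg : ∀ c ∈ Subgroup.center G, ¬ p ∣ orderOf c := by
    intro c hc hdvd
    apply hnn
    have hord : orderOf (c ^ (orderOf c / p)) = p := by
      rw [orderOf_pow_orderOf_div (orderOf_pos c).ne' hdvd]
    have hc' : c ^ (orderOf c / p) ∈ Subgroup.center G := Subgroup.pow_mem _ hc _
    have hmem : c ^ (orderOf c / p) ∈ (P : Subgroup G) := by
      have := hpel ⟨c ^ (orderOf c / p), hZC hc'⟩ (by rw [← Subgroup.orderOf_coe]; exact hord)
      exact this
    have hne : (⟨c ^ (orderOf c / p), hmem⟩ : ↥(P : Subgroup G)) ≠ 1 := by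
      intro h
      have h2 : c ^ (orderOf c / p) = 1 := by
        have := congrArg (fun t : ↥(P : Subgroup G) => (t : G)) h
        simpa using this
      rw [h2, orderOf_one] at hord
      exact hpP.one_lt.ne hord
    have htop := zpowers_eq_top_of_prime_card hP hne
    have hx0mem : x0 ∈ Subgroup.zpowers (⟨c ^ (orderOf c / p), hmem⟩ : ↥(P : Subgroup G)) := by
      rw [htop]
      exact Subgroup.mem_top _
    rw [Subgroup.mem_zpowers_iff] at hx0mem
    obtain ⟨k, hk⟩ := hx0mem
    have hxcen : x ∈ Subgroup.center G := by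
      have h2 : (c ^ (orderOf c / p)) ^ k = x := by
        have := congrArg (fun t : ↥(P : Subgroup G) => (t : G)) hk
        simpa using this
      rw [← h2]
      exact Subgroup.zpow_mem _ hc' _
    constructor
    intro n hn g
    obtain ⟨m, rfl⟩ := hPz n hn
    have h3 : x ^ m ∈ Subgroup.center G := Subgroup.pow_mem _ hxcen _
    have h4 : g * x ^ m * g⁻¹ = x ^ m := by
      rw [Subgroup.mem_center_iff] at h3
      rw [h3 g, mul_inv_cancel_right]
    rw [h4]
    exact hn
  have hτx : τ * x * τ⁻¹ = x⁻¹ := hτinv x hxP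
  have hτC : τ ∈ Subgroup.normalizer
      ((Subgroup.centralizer ((P : Subgroup G) : Set G) : Subgroup G) : Set G) :=
    Cfsg.Agent.Lib.Helper24.ci_normalizer_le (P : Subgroup G) hτN
  have hζ1 : ζ 1 ≠ 0 := by
    rw [hdeg]
    have : (5 : ℝ) < (p : ℝ) := by exact_mod_cast hp
    intro h
    have h2 : ((p : ℂ) - 2).re = 0 := by rw [h]; rfl
    simp at h2
    linarith
  have hθlin : ∀ c c' : ↥(Subgroup.centralizer ((P : Subgroup G) : Set G)),
      (θ : ↥(Subgroup.centralizer ((P : Subgroup G) : Set G)) → ℂ) (c * c') =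
        (θ : ↥(Subgroup.centralizer ((P : Subgroup G) : Set G)) → ℂ) c *
          (θ : ↥(Subgroup.centralizer ((P : Subgroup G) : Set G)) → ℂ) c' :=
    fun c c' => h7_linear_mul (h7_irr_isCharacter θ.2) hθ1 c c'
  refine ⟨x, lam ^ a, ?_⟩
  refine
    { hp := hpP
      hp5 := hp
      irr := hζ
      deg := hdeg
      faith := hfaith
      ordx := hordx
      sylow := ?_
      cent := ?_
      inv := ⟨τ, hτx⟩
      prim := hωprim
      val := ?_
      oddZ := hodd }
  · -- `p ^ 2 ∤ |G|`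
    intro hdvd
    have h1 := P.card_eq_multiplicity
    rw [hP] at h1
    have hne : Nat.card G ≠ 0 := Nat.card_pos.ne'
    have h2 := (hpP.pow_dvd_iff_le_factorization hne).mp hdvd
    have h3 : p ^ 1 = p ^ (Nat.card G).factorization p := by rw [pow_one]; exact h1
    have h4 := Nat.pow_right_injective hpP.two_le h3
    omega
  · -- the centralizer of `x`
    intro g hg
    have hgC : g ∈ Subgroup.centralizer ((P : Subgroup G) : Set G) := by
      rw [Subgroup.mem_centralizer_iff]
      intro y hy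
      obtain ⟨m, rfl⟩ := hPz y hy
      have hcomm : Commute g x := hg
      exact ((hcomm.pow_right m).eq).symm
    set gc : ↥(Subgroup.centralizer ((P : Subgroup G) : Set G)) := ⟨g, hgC⟩ with hgc
    have hgp : ((Λ gc : ℂˣ) : ℂ) ^ p = 1 := by
      rw [← Units.val_pow_eq_pow_val, D.hΛ3 gc, Units.val_one]
    obtain ⟨m, _, hm⟩ := hlamprim.eq_pow_of_pow_eq_one hgp
    set kc : ↥(Subgroup.centralizer ((P : Subgroup G) : Set G)) := (xc ^ m)⁻¹ * gc with hkc
    have hΛk : Λ kc = 1 := by
      apply Units.ext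
      rw [hkc, map_mul, map_inv, map_pow, Units.val_mul, Units.val_one, ← hm]
      rw [Units.val_inv_eq_inv_val, Units.val_pow_eq_pow_val]
      exact inv_mul_cancel₀ (pow_ne_zero _ (Units.ne_zero _))
    have hkreg := hΛreg kc hΛk
    obtain ⟨hkcen, _⟩ := hcen kc hkreg
    refine ⟨m, (kc : G), hkcen, ?_⟩
    rw [hkc]
    simp [hxc, hgc]
  · -- the values
    intro m hm c hc
    set cc : ↥(Subgroup.centralizer ((P : Subgroup G) : Set G)) := ⟨c, hZC hc⟩ with hcc
    have hcreg : ¬ p ∣ orderOf cc := by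
      rw [← Subgroup.orderOf_coe]
      exact hZreg c hc
    have hΛc : Λ cc = 1 := D.hΛ1 cc hcreg
    set yc : ↥(Subgroup.centralizer ((P : Subgroup G) : Set G)) := xc ^ m * cc with hyc
    have hΛy : ((Λ yc : ℂˣ) : ℂ) = lam ^ m := by
      rw [hyc, map_mul, map_pow, hΛc, mul_one, Units.val_pow_eq_pow_val]
    have hsing : p ∣ orderOf yc := by
      by_contra hcon
      have h1 := D.hΛ1 yc hcon
      rw [h1, Units.val_one] at hΛy
      have := (hlamprim.pow_eq_one_iff_dvd m).mp hΛy.symm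
      exact hm this
    have hval := hτval yc hsing
    have hycoe : (yc : G) = x ^ m * c := by
      rw [hyc]
      simp [hxc, hcc]
    -- the conjugate element
    set zc : ↥(Subgroup.centralizer ((P : Subgroup G) : Set G)) := xc⁻¹ ^ m * cc with hzc
    have hconj : (yc : G) = τ * (zc : G) * τ⁻¹ := by
      have h1 : (zc : G) = x⁻¹ ^ m * c := by
        rw [hzc]
        simp [hxc, hcc]
      have h2 : τ * x⁻¹ * τ⁻¹ = x := by
        have : τ * x⁻¹ * τ⁻¹ = (τ * x * τ⁻¹)⁻¹ := by group
        rw [this, hτx, inv_inv]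
      have h3 : τ * (x⁻¹ ^ m) * τ⁻¹ = x ^ m := by
        calc τ * (x⁻¹ ^ m) * τ⁻¹ = (τ * x⁻¹ * τ⁻¹) ^ m := (conj_pow (a := τ) (b := x⁻¹) (i := m)).symm
          _ = x ^ m := by rw [h2]
      have h4 : τ * c * τ⁻¹ = c := by
        have hc2 := Subgroup.mem_center_iff.mp hc τ
        rw [hc2, mul_inv_cancel_right]
      rw [hycoe, h1]
      calc x ^ m * c = (τ * (x⁻¹ ^ m) * τ⁻¹) * (τ * c * τ⁻¹) := by rw [h3, h4]
        _ = τ * (x⁻¹ ^ m * c) * τ⁻¹ := by group
    have hcj := cjIrr_conj _ hτC ξ zc yc hconj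
    rw [hcj, D.hξ yc, D.hξ zc, hΛy] at hval
    have hΛz : ((Λ zc : ℂˣ) : ℂ) = lam⁻¹ ^ m := by
      rw [hzc, map_mul, map_pow, map_inv, hΛc, mul_one, Units.val_pow_eq_pow_val,
        Units.val_inv_eq_inv_val]
    have hθxm : ∀ w : ↥(Subgroup.centralizer ((P : Subgroup G) : Set G)),
        (w : G) ∈ (P : Subgroup G) →
        (θ : ↥(Subgroup.centralizer ((P : Subgroup G) : Set G)) → ℂ) (w * cc) =
          (θ : ↥(Subgroup.centralizer ((P : Subgroup G) : Set G)) → ℂ) cc := by
      intro w hw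
      rw [hθlin, D.hθP w hw, hθ1, one_mul]
    have hθy : (θ : ↥(Subgroup.centralizer ((P : Subgroup G) : Set G)) → ℂ) yc =
        (θ : ↥(Subgroup.centralizer ((P : Subgroup G) : Set G)) → ℂ) cc := by
      apply hθxm
      show ((xc ^ m : ↥(Subgroup.centralizer ((P : Subgroup G) : Set G))) : G) ∈ (P : Subgroup G)
      rw [Subgroup.coe_pow]
      exact Subgroup.pow_mem _ hxP _
    have hθz : (θ : ↥(Subgroup.centralizer ((P : Subgroup G) : Set G)) → ℂ) zc =
        (θ : ↥(Subgroup.centralizer ((P : Subgroup G) : Set G)) → ℂ) cc := by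
      apply hθxm
      show ((xc⁻¹ ^ m : ↥(Subgroup.centralizer ((P : Subgroup G) : Set G))) : G) ∈ (P : Subgroup G)
      rw [Subgroup.coe_pow, Subgroup.coe_inv]
      exact Subgroup.pow_mem _ (Subgroup.inv_mem _ hxP) _
    rw [hΛz, hθy, hθz, hycoe] at hval
    obtain ⟨_, hζc⟩ := hcen cc hcreg
    have hnu : nu ζ c = (θ : ↥(Subgroup.centralizer ((P : Subgroup G) : Set G)) → ℂ) cc := by
      unfold nu
      have : ζ c = ((p : ℂ) - 2) * (θ : ↥(Subgroup.centralizer ((P : Subgroup G) : Set G)) → ℂ) cc := hζc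
      rw [this, hdeg]
      have hne : (p : ℂ) - 2 ≠ 0 := by rw [← hdeg]; exact hζ1
      field_simp
    rw [hval, hnu]
    have e1 : (lam ^ m) ^ a = (lam ^ a) ^ m := by rw [← pow_mul, ← pow_mul, mul_comm]
    have e2 : (lam⁻¹ ^ m) ^ a = (lam ^ a)⁻¹ ^ m := by
      rw [inv_pow, inv_pow, inv_pow, ← pow_mul, ← pow_mul, mul_comm]
    rw [e1, e2]
    ring

end Cfsg.Agent.Lib.helper7.PM2
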