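import Mathlib
import Cfsg.Prelude.Def_Characters
import Cfsg.Agent.Lib.helper7.PM2.Defs
import Cfsg.Agent.Lib.helper7.PM2.FrontDefs
import Cfsg.Agent.Lib.Helper25.CharAbelian
import Cfsg.Agent.Lib.helper7.PM2.Front
import Cfsg.Agent.Lib.Helper9.PM2TW1
import Cfsg.Agent.Lib.Helper9.PM2TW2
import Cfsg.Agent.Lib.helper17.PM2TW3
import Cfsg.Agent.Lib.helper14.PM2MULT
import Cfsg.Agent.Lib.helper14.PM2QC
import Cfsg.Agent.Lib.helper4.PM2QPcore
import Cfsg.Agent.Lib.helper4.PM2QS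
import Cfsg.Agent.Lib.Helper11.PM2QP1
import Cfsg.Agent.Lib.Helper11.PM2QP2
import Cfsg.Agent.Lib.Helper27.PM2NRM2
import Cfsg.Agent.Lib.Helper24.PM2CNT
import Cfsg.Agent.Lib.Helper21.PM2QFcore

/-!
# Project PM2 (S4705) : the assembly
-/

set_option autoImplicit false
set_option linter.unusedVariables false
set_option linter.unusedSectionVars false

namespace Cfsg.Agent.Lib.helper7.PM2

open scoped ComplexConjugate

universe u

/-- perfectness is transported by an isomorphism -/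
theorem pm2asm_perfect_equiv {H K : Type*} [Group H] [Group K] (e : H ≃* K) (h : commutator H = ⊤) :
    commutator K = ⊤ := by
  rw [eq_top_iff]
  intro k _
  have h1 : e.symm k ∈ commutator H := by rw [h]; exact Subgroup.mem_top _
  have h2 : commutator H ≤ (commutator K).comap e.toMonoidHom := by
    rw [commutator_def, commutator_def, Subgroup.commutator_le]
    intro a _ b _
    rw [Subgroup.mem_comap, map_commutatorElement]
    exact Subgroup.commutator_mem_commutator (Subgroup.mem_top _) (Subgroup.mem_top _)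
  have h3 := h2 h1
  rw [Subgroup.mem_comap] at h3
  simpa using h3

/-- TW4 : assembly of `twist` -/
theorem twist {G : Type u} [Group G] [Finite G] (p : ℕ) [Fact p.Prime] (hp : 5 < p) (P : Sylow p G)
    (hP : Nat.card P = p) (hnn : ¬ (P : Subgroup G).Normal) (ζ : G → ℂ)
    (hζ : Cfsg.IsIrrCharacter G ζ) (hfaith : ∀ g : G, ζ g = ζ 1 → g = 1)
    (hdeg : ζ 1 = (p : ℂ) - 2) :
    ∃ (L : Subgroup G) (_ : L.Normal) (Q : Sylow p (G ⧸ L)) (ζ' : G ⧸ L → ℂ),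
      L ≤ Subgroup.center G ∧
      Subgroup.center (G ⧸ L) = (Subgroup.center G).map (QuotientGroup.mk' L) ∧
      Odd (Nat.card (Subgroup.center (G ⧸ L))) ∧
      Nat.card Q = p ∧ ¬ (Q : Subgroup (G ⧸ L)).Normal ∧
      Cfsg.IsIrrCharacter (G ⧸ L) ζ' ∧ (∀ g : G ⧸ L, ζ' g = ζ' 1 → g = 1) ∧ ζ' 1 = (p : ℂ) - 2 := by
  have hpP : p.Prime := Fact.out
  have hd : ζ 1 = ((p - 2 : ℕ) : ℂ) := by
    rw [hdeg, Nat.cast_sub (by omega)]
    norm_num
  have hodd : Odd (p - 2) := by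
    rcases hpP.eq_two_or_odd' with h2 | h2
    · omega
    · obtain ⟨k, hk⟩ := h2
      exact ⟨k - 1, by omega⟩
  obtain ⟨β, hβ, hβ1, r, hr, hβr⟩ := twist_lin ζ hζ (p - 2) hd hodd
  obtain ⟨L, hLn, ζ', hLZ, hcen, hoddZ, hirr, hfaith', hdeg'⟩ :=
    twist_quot ζ hζ hfaith β hβ hβ1 r hr hβr
  obtain ⟨Q, hQ, hQn⟩ := twist_sylow p P hP hnn L hLZ
  exact ⟨L, hLn, Q, ζ', hLZ, hcen, hoddZ, hQ, hQn, hirr, hfaith', by rw [hdeg', hdeg]⟩

/-- QP (assembled from the landed core) -/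
theorem pm2main_quot_perfect {G : Type u} [Group G] [Fintype G] {p : ℕ} {ζ : G → ℂ} {x : G} {ω : ℂ}
    (S : Setting p ζ x ω) : commutator (G ⧸ Subgroup.center G) = ⊤ :=
  pm2qp_core S (zero_off_ker S) (nrm_nonzero S) (nrm_of_conj_mem S)

/-- QF (assembled from the landed core) -/
theorem pm2main_thmA {G : Type u} [Group G] [Fintype G] {p : ℕ} {ζ : G → ℂ} {x : G} {ω : ℂ}
    (S : Setting p ζ x ω) :
    ∃ (a : ℕ) (F : Type) (_ : Field F) (_ : Fintype F), p = 2 ^ a + 1 ∧ Fintype.card F = 2 ^ a ∧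
      Nonempty (G ⧸ Subgroup.center G ≃* Matrix.SpecialLinearGroup (Fin 2) F) :=
  pm2qf_core p S.hp S.hp5 (card_eq S) (quot_center S) (fun Q => quot_sylow S Q)
    (pm2main_quot_perfect S)

/-- Theorem B : odd centre -/
theorem thmB {G : Type u} [Group G] [Finite G] (p : ℕ) [Fact p.Prime] (hp : 5 < p) (P : Sylow p G)
    (hP : Nat.card P = p) (hnn : ¬ (P : Subgroup G).Normal) (ζ : G → ℂ)
    (hζ : Cfsg.IsIrrCharacter G ζ) (hfaith : ∀ g : G, ζ g = ζ 1 → g = 1)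
    (hdeg : ζ 1 = (p : ℂ) - 2) (hodd : Odd (Nat.card (Subgroup.center G))) :
    ∃ (a : ℕ) (F : Type) (_ : Field F) (_ : Fintype F), p = 2 ^ a + 1 ∧ Fintype.card F = 2 ^ a ∧
      Nonempty (G ⧸ Subgroup.center G ≃* Matrix.SpecialLinearGroup (Fin 2) F) ∧
      commutator (G ⧸ Subgroup.center G) = ⊤ := by
  haveI : Fintype G := Fintype.ofFinite G
  obtain ⟨x, ω, S⟩ := front p hp P hP hnn ζ hζ hfaith hdeg hodd
  obtain ⟨a, F, i1, i2, h1, h2, h3⟩ := pm2main_thmA S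
  exact ⟨a, F, i1, i2, h1, h2, h3, pm2main_quot_perfect S⟩

/-- Theorem C : arbitrary centre -/
theorem thmC {G : Type u} [Group G] [Finite G] (p : ℕ) [Fact p.Prime] (hp : 5 < p) (P : Sylow p G)
    (hP : Nat.card P = p) (hnn : ¬ (P : Subgroup G).Normal) (ζ : G → ℂ)
    (hζ : Cfsg.IsIrrCharacter G ζ) (hfaith : ∀ g : G, ζ g = ζ 1 → g = 1)
    (hdeg : ζ 1 = (p : ℂ) - 2) :
    ∃ (a : ℕ) (F : Type) (_ : Field F) (_ : Fintype F), p = 2 ^ a + 1 ∧ Fintype.card F = 2 ^ a ∧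
      Nonempty (G ⧸ Subgroup.center G ≃* Matrix.SpecialLinearGroup (Fin 2) F) ∧
      commutator (G ⧸ Subgroup.center G) = ⊤ := by
  obtain ⟨L, hLn, Q, ζ', hLZ, hcen, hoddZ, hQ, hQn, hirr, hfaith', hdeg'⟩ :=
    twist p hp P hP hnn ζ hζ hfaith hdeg
  obtain ⟨a, F, i1, i2, h1, h2, ⟨φ⟩, hperf⟩ := thmB p hp Q hQ hQn ζ' hirr hfaith' hdeg' hoddZ
  haveI : ((Subgroup.center G).map (QuotientGroup.mk' L)).Normal :=
    Subgroup.Normal.map inferInstance _ (QuotientGroup.mk'_surjective L)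
  let e₁ : (G ⧸ L) ⧸ Subgroup.center (G ⧸ L) ≃* (G ⧸ L) ⧸ (Subgroup.center G).map (QuotientGroup.mk' L) :=
    QuotientGroup.quotientMulEquivOfEq hcen
  let e₂ : (G ⧸ L) ⧸ (Subgroup.center G).map (QuotientGroup.mk' L) ≃* G ⧸ Subgroup.center G :=
    QuotientGroup.quotientQuotientEquivQuotient L (Subgroup.center G) hLZ
  refine ⟨a, F, i1, i2, h1, h2, ⟨(e₁.trans e₂).symm.trans φ⟩, ?_⟩
  exact pm2asm_perfect_equiv (e₁.trans e₂) hperf

/-- the statement of S4705 -/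
theorem main {G : Type u} [Group G] [Finite G] (p : ℕ) [Fact p.Prime] (hp : 5 < p) (P : Sylow p G)
    (hP : Nat.card P = p) (hnn : ¬ (P : Subgroup G).Normal) (ζ : G → ℂ)
    (hζ : Cfsg.IsIrrCharacter G ζ) (hfaith : ∀ g : G, ζ g = ζ 1 → g = 1)
    (hdeg : Cfsg.charDegree ζ = p - 2) :
    ∃ (a : ℕ) (F : Type) (_ : Field F) (_ : Fintype F), p = 2 ^ a + 1 ∧ Fintype.card F = 2 ^ a ∧
      Nonempty (G ≃* Matrix.SpecialLinearGroup (Fin 2) F × Subgroup.center G) := by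
  have hdeg' : ζ 1 = (p : ℂ) - 2 := by
    have h1 := (Cfsg.Agent.Lib.Helper25.charDegree_irr (⟨ζ, hζ⟩ : Cfsg.IrrCharacter G)).1
    simp only at h1
    rw [← h1, hdeg, Nat.cast_sub (by omega)]
    norm_num
  obtain ⟨a, F, i1, i2, h1, h2, ⟨φ⟩, hperf⟩ := thmC p hp P hP hnn ζ hζ hfaith hdeg'
  refine ⟨a, F, i1, i2, h1, h2, ?_⟩
  have ha : 3 ≤ a := by
    by_contra hcon
    have : a = 0 ∨ a = 1 ∨ a = 2 := by omega
    rcases this with rfl | rfl | rfl <;> omega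
  have h4 : Fintype.card F ≠ 4 := by
    rw [h2]
    intro h
    have : (2 : ℕ) ^ 3 ≤ 2 ^ a := Nat.pow_le_pow_right (by norm_num) ha
    omega
  have h9 : Fintype.card F ≠ 9 := by
    rw [h2]
    intro h
    have h3 : (2 : ℕ) ∣ 2 ^ a := dvd_pow_self 2 (by omega)
    omega
  exact mult_split h4 h9 hperf φ

end Cfsg.Agent.Lib.helper7.PM2
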